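import Mathlib

/-! The trace of exterior powers of differentials for an extension by a `p`-th root. -/

set_option autoImplicit false
set_option linter.style.haveILetI false
set_option linter.unusedSectionVars false

universe u

open scoped TensorProduct
open Polynomial

noncomputable section

namespace Groth.Agent.PthTrace

section Descend

variable {S M M' N : Type*} [CommRing S] [AddCommGroup M] [Module S M] [AddCommGroup M'] [Module S M']
  [AddCommGroup N] [Module S N] {n : ℕ}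

theorem eq_of_forall_sub_mem_ker (π : M →ₗ[S] M') (g : M [⋀^Fin n]→ₗ[S] N)
    (hg : ∀ v i, π (v i) = 0 → g v = 0) (v w : Fin n → M) (h : ∀ i, π (v i) = π (w i)) : g v = g w := by
  classical
  have hv : v = w + (v - w) := by abel
  rw [hv]
  show g.toMultilinearMap (w + (v - w)) = g.toMultilinearMap w
  rw [MultilinearMap.map_add_univ, Finset.sum_eq_single (Finset.univ : Finset (Fin n))]
  · rw [Finset.piecewise_univ]
  · intro s _ hs
    obtain ⟨i, hi⟩ : ∃ i, i ∉ s := by
      by_contra! hc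
      exact hs (Finset.eq_univ_iff_forall.2 hc)
    refine hg _ i ?_
    rw [Finset.piecewise_eq_of_notMem _ _ _ hi, Pi.sub_apply, map_sub, h, sub_self]
  · intro hc
    exact absurd (Finset.mem_univ _) hc

/-- An alternating map killing the kernel of a surjection descends along it. -/
def descend (π : M →ₗ[S] M') (hπ : Function.Surjective π) (g : M [⋀^Fin n]→ₗ[S] N)
    (hg : ∀ v i, π (v i) = 0 → g v = 0) : M' [⋀^Fin n]→ₗ[S] N where
  toFun v := g fun i => Function.surjInv hπ (v i)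
  map_update_add' := by
    intro _ v i x y
    have hu : ∀ z, (fun j => Function.surjInv hπ (Function.update v i z j)) =
        Function.update (fun j => Function.surjInv hπ (v j)) i (Function.surjInv hπ z) := fun z =>
      funext fun j => Function.apply_update (fun _ => Function.surjInv hπ) v i z j
    show g _ = g _ + g _
    rw [hu, hu, hu, ← g.map_update_add]
    refine eq_of_forall_sub_mem_ker π g hg _ _ fun j => ?_
    by_cases hj : j = i
    · subst hj; simp [Function.surjInv_eq hπ]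
    · simp [Function.update_of_ne hj]
  map_update_smul' := by
    intro _ v i c x
    have hu : ∀ z, (fun j => Function.surjInv hπ (Function.update v i z j)) =
        Function.update (fun j => Function.surjInv hπ (v j)) i (Function.surjInv hπ z) := fun z =>
      funext fun j => Function.apply_update (fun _ => Function.surjInv hπ) v i z j
    show g _ = c • g _
    rw [hu, hu, ← g.map_update_smul]
    refine eq_of_forall_sub_mem_ker π g hg _ _ fun j => ?_
    by_cases hj : j = i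
    · subst hj; simp [Function.surjInv_eq hπ]
    · simp [Function.update_of_ne hj]
  map_eq_zero_of_eq' v i j h hij := g.map_eq_zero_of_eq _ (by show _ = _; rw [h]) hij

theorem descend_apply (π : M →ₗ[S] M') (hπ : Function.Surjective π) (g : M [⋀^Fin n]→ₗ[S] N)
    (hg : ∀ v i, π (v i) = 0 → g v = 0) (v : Fin n → M) : descend π hπ g hg (fun i => π (v i)) = g v :=
  eq_of_forall_sub_mem_ker π g hg _ _ fun _ => Function.surjInv_eq hπ _

end Descend

section Core

variable (R : Type u) [CommRing R] (S' : Type u) [CommRing S'] [Algebra R S'] {Λ : Type u} [CommRing Λ] [Algebra Λ R]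

/-- Base change of the exterior algebra. -/
theorem exists_baseChange : ∃ Φ : ExteriorAlgebra S' (S' ⊗[R] Ω[R⁄Λ]) →ₐ[S'] S' ⊗[R] (ExteriorAlgebra R Ω[R⁄Λ]),
    ∀ η, Φ (ExteriorAlgebra.ι S' ((1 : S') ⊗ₜ[R] η)) = (1 : S') ⊗ₜ[R] ExteriorAlgebra.ι R η := by
  let φ : S' ⊗[R] Ω[R⁄Λ] →ₗ[S'] S' ⊗[R] (ExteriorAlgebra R Ω[R⁄Λ]) := (ExteriorAlgebra.ι R).baseChange S'
  have hanti : ∀ m m' : S' ⊗[R] Ω[R⁄Λ], φ m * φ m' + φ m' * φ m = 0 := by
    intro m m'
    induction m using TensorProduct.induction_on with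
    | zero => simp
    | add m₁ m₂ h₁ h₂ =>
      rw [map_add, add_mul, mul_add, add_add_add_comm, h₁, h₂, add_zero]
    | tmul s η =>
      induction m' using TensorProduct.induction_on with
      | zero => simp
      | add m₁ m₂ h₁ h₂ => rw [map_add, mul_add, add_mul, add_add_add_comm, h₁, h₂, add_zero]
      | tmul s' η' =>
        simp only [φ, LinearMap.baseChange_tmul, Algebra.TensorProduct.tmul_mul_tmul, mul_comm s' s,
          ← TensorProduct.tmul_add, ExteriorAlgebra.ι_add_mul_swap, TensorProduct.tmul_zero]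
  have hsq : ∀ m, φ m * φ m = 0 := by
    intro m
    induction m using TensorProduct.induction_on with
    | zero => simp
    | tmul s η => simp [φ]
    | add m₁ m₂ h₁ h₂ => rw [map_add, add_mul, mul_add, mul_add, h₁, h₂, zero_add, add_zero, hanti]
  exact ⟨ExteriorAlgebra.lift S' ⟨φ, hsq⟩, fun η => by simp [φ]⟩

variable [Algebra Λ S'] [IsScalarTower Λ R S']

/-- The trace, for an algebra with a chosen element and coefficient function. -/
theorem core (p : ℕ) (hp : p ≠ 0) (a : R) (y : S')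
    (L : Ω[S'⁄Λ] →ₗ[S'] ((S' ⊗[R] Ω[R⁄Λ]) ⧸ Submodule.span S' {(1 : S') ⊗ₜ[R] KaehlerDifferential.D Λ R a}) × S')
    (hLη : ∀ η, L (KaehlerDifferential.map Λ Λ R S' η) = (Submodule.Quotient.mk ((1 : S') ⊗ₜ[R] η), 0))
    (hLx : L (KaehlerDifferential.D Λ S' y) = (0, 1))
    (c : S' →ₗ[R] R) (hc : ∀ i, i < p → c (y ^ i) = if i = p - 1 then 1 else 0) (t : ℕ) :
    ∃ Tr : (⋀[S']^(t + 1) (Ω[S'⁄Λ])) →+ (⋀[R]^(t + 1) Ω[R⁄Λ]),
      (∀ (r : R) (ω : ⋀[S']^(t + 1) (Ω[S'⁄Λ])), Tr (algebraMap R S' r • ω) = r • Tr ω) ∧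
      (∀ (η : Fin t → Ω[R⁄Λ]) (i : ℕ), i + 2 ≤ p →
        Tr (exteriorPower.ιMulti _ (t + 1) (Fin.snoc (fun j => KaehlerDifferential.map Λ Λ R S' (η j))
          (y ^ i • KaehlerDifferential.D Λ _ y))) = 0) ∧
      (∀ (η : Fin t → Ω[R⁄Λ]),
        Tr (exteriorPower.ιMulti _ (t + 1) (Fin.snoc (fun j => KaehlerDifferential.map Λ Λ R S' (η j))
          (y ^ (p - 1) • KaehlerDifferential.D Λ _ y))) =
          exteriorPower.ιMulti R (t + 1) (Fin.snoc η (KaehlerDifferential.D Λ R a))) ∧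
      (∀ (s : S') (η : Fin (t + 1) → Ω[R⁄Λ]),
        Tr (s • exteriorPower.ιMulti _ (t + 1) (fun j => KaehlerDifferential.map Λ Λ R S' (η j))) = 0) := by
  classical
  let base' : Ω[R⁄Λ] → ((S' ⊗[R] Ω[R⁄Λ]) ⧸ Submodule.span S' {(1 : S') ⊗ₜ[R] KaehlerDifferential.D Λ R a}) × S' :=
    fun η => (Submodule.Quotient.mk ((1 : S') ⊗ₜ[R] η), 0)
  obtain ⟨Φ, hΦ⟩ := exists_baseChange R S' (Λ := Λ)
  let π : S' ⊗[R] Ω[R⁄Λ] →ₗ[S'] (S' ⊗[R] Ω[R⁄Λ]) ⧸ (Submodule.span S' {(1 : S') ⊗ₜ[R] KaehlerDifferential.D Λ R a}) := ((Submodule.span S' {(1 : S') ⊗ₜ[R] KaehlerDifferential.D Λ R a})).mkQ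
  let da := KaehlerDifferential.D Λ R a
  let e : ExteriorAlgebra S' (S' ⊗[R] Ω[R⁄Λ]) := ExteriorAlgebra.ι S' ((1 : S') ⊗ₜ[R] da)
  let g : (S' ⊗[R] Ω[R⁄Λ]) [⋀^Fin t]→ₗ[S'] S' ⊗[R] (ExteriorAlgebra R Ω[R⁄Λ]) :=
    (Φ.toLinearMap.comp (LinearMap.mulRight S' e)).compAlternatingMap (ExteriorAlgebra.ιMulti S' t)
  have hg : ∀ v i, π (v i) = 0 → g v = 0 := by
    intro v i hi
    obtain ⟨c, hc⟩ := Submodule.mem_span_singleton.1 ((Submodule.Quotient.mk_eq_zero _).1 hi)
    have h0 : ExteriorAlgebra.ιMulti S' t v * e = 0 := by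
      have hv : v = Function.update v i (c • ((1 : S') ⊗ₜ[R] da)) := by rw [hc, Function.update_eq_self]
      rw [hv, AlternatingMap.map_update_smul, smul_mul_assoc]
      refine (congrArg (c • ·) ?_).trans (smul_zero c)
      have hz := (ExteriorAlgebra.ιMulti S' (t + 1)).map_eq_zero_of_eq
        (Fin.snoc (Function.update v i ((1 : S') ⊗ₜ[R] da)) ((1 : S') ⊗ₜ[R] da) : Fin (t + 1) → S' ⊗[R] Ω[R⁄Λ])
        (i := i.castSucc) (j := Fin.last t) (by simp) (Fin.castSucc_lt_last i).ne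
      rw [ExteriorAlgebra.ιMulti_apply, List.ofFn_succ', List.concat_eq_append, List.prod_append] at hz
      simpa [ExteriorAlgebra.ιMulti_apply, e] using hz
    show Φ (ExteriorAlgebra.ιMulti S' t v * e) = 0
    rw [h0, map_zero]
  let G := (descend π (Submodule.mkQ_surjective _) g hg).compLinearMap (LinearMap.fst S' _ S')
  let f : (((S' ⊗[R] Ω[R⁄Λ]) ⧸ Submodule.span S' {(1 : S') ⊗ₜ[R] KaehlerDifferential.D Λ R a}) × S') →ₗ[S'] (((S' ⊗[R] Ω[R⁄Λ]) ⧸ Submodule.span S' {(1 : S') ⊗ₜ[R] KaehlerDifferential.D Λ R a}) × S') [⋀^Fin t]→ₗ[S'] S' ⊗[R] (ExteriorAlgebra R Ω[R⁄Λ]) := (LinearMap.snd S' _ S').smulRight G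
  let Ψ := (((-1 : S') ^ t) • AlternatingMap.alternatizeUncurryFin f).compLinearMap L
  let coef : S' ⊗[R] (ExteriorAlgebra R Ω[R⁄Λ]) →ₗ[R] (ExteriorAlgebra R Ω[R⁄Λ]) := TensorProduct.lift ((LinearMap.lsmul R (ExteriorAlgebra R Ω[R⁄Λ])).comp c)
  have hcoef : ∀ s w, coef (s ⊗ₜ[R] w) = c s • w := fun s w => rfl
  let proj : (ExteriorAlgebra R Ω[R⁄Λ]) →ₗ[R] ⋀[R]^(t + 1) Ω[R⁄Λ] :=
    (DirectSum.component R ℕ (fun i => ⋀[R]^i Ω[R⁄Λ]) (t + 1)).comp
      (DirectSum.decomposeLinearEquiv (fun i => ⋀[R]^i Ω[R⁄Λ])).toLinearMap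
  have hproj : ∀ z : ⋀[R]^(t + 1) Ω[R⁄Λ], proj z = z := fun z => by
    show DirectSum.decompose (fun i => ⋀[R]^i Ω[R⁄Λ]) (z : (ExteriorAlgebra R Ω[R⁄Λ])) (t + 1) = z
    exact Subtype.ext (DirectSum.decompose_of_mem_same _ z.2)
  let T : ⋀[S']^(t + 1) (Ω[S'⁄Λ]) →ₗ[S'] S' ⊗[R] (ExteriorAlgebra R Ω[R⁄Λ]) := exteriorPower.alternatingMapLinearEquiv Ψ
  let Tr : (⋀[S']^(t + 1) (Ω[S'⁄Λ])) →+ (⋀[R]^(t + 1) Ω[R⁄Λ]) :=
    (proj.comp coef).toAddMonoidHom.comp T.toAddMonoidHom
  have hT : ∀ v, T (exteriorPower.ιMulti S' (t + 1) v) = Ψ v := fun v =>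
    exteriorPower.alternatingMapLinearEquiv_apply_ιMulti Ψ v
  have hGη : ∀ η : Fin t → Ω[R⁄Λ], G (fun j => base' (η j)) =
      (1 : S') ⊗ₜ[R] (exteriorPower.ιMulti R (t + 1) (Fin.snoc η da) : (ExteriorAlgebra R Ω[R⁄Λ])) := by
    intro η
    show descend π _ g hg (fun j => π ((1 : S') ⊗ₜ[R] η j)) = _
    rw [descend_apply]
    show Φ (ExteriorAlgebra.ιMulti S' t (fun j => (1 : S') ⊗ₜ[R] η j) * e) = _
    rw [exteriorPower.ιMulti_apply_coe, ExteriorAlgebra.ιMulti_apply, ExteriorAlgebra.ιMulti_apply,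
      List.ofFn_succ', List.concat_eq_append, List.prod_append, map_mul, map_list_prod, List.map_ofFn]
    simp only [e, Fin.snoc_castSucc, Fin.snoc_last, List.prod_cons, List.prod_nil, mul_one, hΦ]
    rw [show (1 : S') ⊗ₜ[R] ((List.ofFn fun i => ExteriorAlgebra.ι R (η i)).prod * ExteriorAlgebra.ι R da) =
      Algebra.TensorProduct.includeRight (R := R) (A := S')
        ((List.ofFn fun i => ExteriorAlgebra.ι R (η i)).prod * ExteriorAlgebra.ι R da) from rfl,
      map_mul, map_list_prod, List.map_ofFn]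
    congr 3
    funext j
    simp [hΦ]
  have hsnoc : ∀ (η : Fin t → Ω[R⁄Λ]) (i : ℕ), Ψ (Fin.snoc (fun j => KaehlerDifferential.map Λ Λ R S' (η j))
      (y ^ i • KaehlerDifferential.D Λ _ y)) =
      (y ^ i) ⊗ₜ[R] (exteriorPower.ιMulti R (t + 1) (Fin.snoc η da) : (ExteriorAlgebra R Ω[R⁄Λ])) := by
    intro η i
    have hv : (fun k => L ((Fin.snoc (fun j => KaehlerDifferential.map Λ Λ R S' (η j))
        (y ^ i • KaehlerDifferential.D Λ _ y) : Fin (t + 1) → Ω[S'⁄Λ]) k)) =
        (Fin.snoc (fun j => base' (η j)) ((0, y ^ i) : ((S' ⊗[R] Ω[R⁄Λ]) ⧸ Submodule.span S' {(1 : S') ⊗ₜ[R] KaehlerDifferential.D Λ R a}) × S') : Fin (t + 1) → ((S' ⊗[R] Ω[R⁄Λ]) ⧸ Submodule.span S' {(1 : S') ⊗ₜ[R] KaehlerDifferential.D Λ R a}) × S') := by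
      funext k
      induction k using Fin.lastCases with
      | last => simp [hLx]
      | cast j => simp [hLη, base']
    show ((-1 : S') ^ t) • AlternatingMap.alternatizeUncurryFin f (fun k => L ((Fin.snoc
      (fun j => KaehlerDifferential.map Λ Λ R S' (η j)) (y ^ i • KaehlerDifferential.D Λ _ y) :
        Fin (t + 1) → Ω[S'⁄Λ]) k)) = _
    rw [hv, AlternatingMap.alternatizeUncurryFin_apply,
      Fin.sum_univ_castSucc, Finset.sum_eq_zero fun j _ => ?_, zero_add]
    · rw [Fin.removeNth_last, Fin.init_snoc, Fin.snoc_last]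
      show ((-1 : S') ^ t) • ((-1 : ℤ) ^ ((Fin.last t : Fin (t + 1)) : ℕ)) • (y ^ i • G _) = _
      rw [Fin.val_last, hGη, TensorProduct.smul_tmul', smul_eq_mul, mul_one,
        ← Int.cast_smul_eq_zsmul S', Int.cast_pow, Int.cast_neg, Int.cast_one, smul_smul, ← pow_add,
        Even.neg_one_pow ⟨t, rfl⟩, one_smul]
    · rw [Fin.snoc_castSucc]
      simp [f, base']
  refine ⟨Tr, fun r ω => ?_, fun η i hi => ?_, fun η => ?_, fun s η => ?_⟩
  · show proj (coef (T (algebraMap R S' r • ω))) = r • proj (coef (T ω))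
    rw [map_smul, algebraMap_smul, map_smul, map_smul]
  · show proj (coef (T _)) = 0
    rw [hT, hsnoc, hcoef, hc i (by omega), if_neg (by omega), zero_smul, map_zero]
  · show proj (coef (T _)) = _
    rw [hT, hsnoc, hcoef, hc (p - 1) (Nat.sub_lt (Nat.pos_of_ne_zero hp) one_pos), if_pos rfl, one_smul]
    exact hproj _
  · show proj (coef (T (s • _))) = 0
    rw [map_smul, hT]
    have h0 : Ψ (fun j => KaehlerDifferential.map Λ Λ R S' (η j)) = 0 := by
      show ((-1 : S') ^ t) • AlternatingMap.alternatizeUncurryFin f _ = 0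
      rw [AlternatingMap.alternatizeUncurryFin_apply, Finset.sum_eq_zero fun j _ => ?_, smul_zero]
      simp [f, hLη]
    rw [h0, smul_zero, map_zero, map_zero]

end Core

variable (p : ℕ) [hp : Fact p.Prime] (Λ R : Type u) [CommRing Λ] [CommRing R] [Algebra Λ R]
  [CharP R p] (a : R)

local notation "S" => AdjoinRoot (X ^ p - C a : R[X])
local notation "x" => AdjoinRoot.root (X ^ p - C a : R[X])
local notation "ΩR" => Ω[R⁄Λ]
local notation "E" => ExteriorAlgebra R Ω[R⁄Λ]

theorem monic : (X ^ p - C a : R[X]).Monic := monic_X_pow_sub_C a hp.out.ne_zero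

theorem root_pow : x ^ p = algebraMap R S a := by
  have h := AdjoinRoot.eval₂_root (X ^ p - C a : R[X])
  rwa [eval₂_sub, eval₂_X_pow, eval₂_C, sub_eq_zero] at h

/-- The relation `da` in the extended differentials. -/
abbrev K : Submodule S (S ⊗[R] ΩR) := Submodule.span S {(1 : S) ⊗ₜ[R] KaehlerDifferential.D Λ R a}

/-- The model of the differentials of `S`. -/
abbrev Q := ((S ⊗[R] ΩR) ⧸ K p Λ R a) × S

/-- The class of a differential of `R`. -/
def base (η : ΩR) : Q p Λ R a := (Submodule.Quotient.mk ((1 : S) ⊗ₜ[R] η), 0)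

theorem exists_map_general {M : Type u} [AddCommGroup M] [Module S M] [Module R M] [IsScalarTower R S M]
    [Module Λ M] [IsScalarTower Λ R M] [IsScalarTower Λ S M] (b : ΩR →ₗ[R] M) (v : M)
    (hb : b (KaehlerDifferential.D Λ R a) = 0) :
    ∃ L : Ω[S⁄Λ] →ₗ[S] M, (∀ η, L (KaehlerDifferential.map Λ Λ R S η) = b η) ∧
      L (KaehlerDifferential.D Λ S x) = v := by
  letI : Module Sᵐᵒᵖ M := Module.compHom _ ((RingHom.id S).fromOpposite mul_comm)
  haveI : IsCentralScalar S M := ⟨fun _ _ => rfl⟩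
  haveI : Nontrivial R := CharP.nontrivial_of_char_ne_one (R := R) hp.out.ne_one
  have hp0 : (p : S) = 0 := by rw [← map_natCast (algebraMap R S), CharP.cast_eq_zero R p, map_zero]
  let h₀ : R →+* TrivSqZeroExt S M :=
    { toFun := fun r => TrivSqZeroExt.inl (algebraMap R S r) + TrivSqZeroExt.inr (b (KaehlerDifferential.D Λ R r))
      map_one' := by ext <;> simp
      map_mul' := fun r r' => by
        refine TrivSqZeroExt.ext ?_ ?_
        · simp
        · simp [op_smul_eq_smul, ← AdjoinRoot.algebraMap_eq, algebraMap_smul]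
      map_zero' := by ext <;> simp
      map_add' := fun r r' => by
        refine TrivSqZeroExt.ext ?_ ?_ <;> simp }
  have hroot : (X ^ p - C a : R[X]).eval₂ h₀ (TrivSqZeroExt.inl x + TrivSqZeroExt.inr v) = 0 := by
    rw [eval₂_sub, eval₂_X_pow, eval₂_C, sub_eq_zero]
    refine TrivSqZeroExt.ext ?_ ?_
    · simp [h₀, root_pow]
    · rw [TrivSqZeroExt.snd_pow, ← Nat.cast_smul_eq_nsmul S, hp0, zero_smul]
      simp [h₀, hb]
  let h := AdjoinRoot.lift h₀ _ hroot
  have hfst : ∀ s, (h s).fst = s := by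
    intro s
    induction s using AdjoinRoot.induction_on with
    | ih P =>
      induction P using Polynomial.induction_on' with
      | add P P' hP hP' => simp only [map_add, TrivSqZeroExt.fst_add, hP, hP']
      | monomial n c =>
        rw [← C_mul_X_pow_eq_monomial, map_mul, map_pow, map_mul, map_pow, AdjoinRoot.mk_C, AdjoinRoot.mk_X]
        simp only [h, AdjoinRoot.lift_of, AdjoinRoot.lift_root, TrivSqZeroExt.fst_mul, TrivSqZeroExt.fst_pow]
        simp [h₀, AdjoinRoot.algebraMap_eq]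
  let D : Derivation Λ S M := Derivation.mk'
    { toFun := fun s => (h s).snd
      map_add' := fun s s' => by simp
      map_smul' := fun l s => by
        have hl : h (algebraMap Λ S l) = TrivSqZeroExt.inl (algebraMap Λ S l) := by
          rw [IsScalarTower.algebraMap_apply Λ R S, AdjoinRoot.algebraMap_eq, AdjoinRoot.lift_of]
          refine TrivSqZeroExt.ext ?_ ?_ <;> simp [h₀, AdjoinRoot.algebraMap_eq]
        rw [Algebra.smul_def, map_mul, hl, TrivSqZeroExt.snd_mul, TrivSqZeroExt.snd_inl,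
          TrivSqZeroExt.fst_inl, smul_zero, add_zero, algebraMap_smul]
        rfl }
    fun s s' => by simp [hfst, op_smul_eq_smul]
  refine ⟨D.liftKaehlerDifferential, ?_, ?_⟩
  · have : (D.liftKaehlerDifferential.restrictScalars R).comp (KaehlerDifferential.map Λ Λ R S) = b :=
      Derivation.liftKaehlerDifferential_unique _ _ (Derivation.ext fun r => by
        show D.liftKaehlerDifferential (KaehlerDifferential.map Λ Λ R S (KaehlerDifferential.D Λ R r)) = _
        rw [KaehlerDifferential.map_D, Derivation.liftKaehlerDifferential_comp_D]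
        show (h (algebraMap R S r)).snd = b (KaehlerDifferential.D Λ R r)
        rw [AdjoinRoot.algebraMap_eq, AdjoinRoot.lift_of]
        simp [h₀])
    exact fun η => LinearMap.congr_fun this η
  · rw [Derivation.liftKaehlerDifferential_comp_D]
    show (h x).snd = _
    rw [AdjoinRoot.lift_root]
    simp

theorem exists_map : ∃ L : Ω[S⁄Λ] →ₗ[S] Q p Λ R a,
    (∀ η, L (KaehlerDifferential.map Λ Λ R S η) = base p Λ R a η) ∧ L (KaehlerDifferential.D Λ S x) = (0, 1) :=
  exists_map_general p Λ R a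
    ((LinearMap.inl R _ S).comp (((K p Λ R a).mkQ.restrictScalars R).comp (TensorProduct.mk R S ΩR 1)))
    (0, 1) (Prod.ext ((Submodule.Quotient.mk_eq_zero _).2 (Submodule.subset_span rfl)) rfl)

/-- The trace. -/
theorem main (t : ℕ) :
    ∃ Tr : (⋀[S]^(t + 1) (Ω[S⁄Λ])) →+ (⋀[R]^(t + 1) ΩR),
      (∀ (r : R) (ω : ⋀[S]^(t + 1) (Ω[S⁄Λ])), Tr (algebraMap R S r • ω) = r • Tr ω) ∧
      (∀ (η : Fin t → ΩR) (i : ℕ), i + 2 ≤ p →
        Tr (exteriorPower.ιMulti _ (t + 1) (Fin.snoc (fun j => KaehlerDifferential.map Λ Λ R S (η j))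
          (x ^ i • KaehlerDifferential.D Λ _ x))) = 0) ∧
      (∀ (η : Fin t → ΩR),
        Tr (exteriorPower.ιMulti _ (t + 1) (Fin.snoc (fun j => KaehlerDifferential.map Λ Λ R S (η j))
          (x ^ (p - 1) • KaehlerDifferential.D Λ _ x))) =
          exteriorPower.ιMulti R (t + 1) (Fin.snoc η (KaehlerDifferential.D Λ R a))) ∧
      (∀ (s : S) (η : Fin (t + 1) → ΩR),
        Tr (s • exteriorPower.ιMulti _ (t + 1) (fun j => KaehlerDifferential.map Λ Λ R S (η j))) = 0) := by
  classical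
  haveI : Nontrivial R := CharP.nontrivial_of_char_ne_one (R := R) hp.out.ne_one
  obtain ⟨L, hLη, hLx⟩ := exists_map p Λ R a
  let pb := AdjoinRoot.powerBasis' (monic p R a)
  have hdim : pb.dim = p := by
    rw [AdjoinRoot.powerBasis'_dim, natDegree_X_pow_sub_C]
  let last : Fin pb.dim := ⟨p - 1, by rw [hdim]; exact Nat.sub_lt hp.out.pos one_pos⟩
  let c : S →ₗ[R] R := pb.basis.coord last
  have hc : ∀ i, i < p → c (x ^ i) = if i = p - 1 then 1 else 0 := by
    intro i hi
    have e1 : x ^ i = pb.basis ⟨i, by rw [hdim]; exact hi⟩ := by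
      rw [pb.coe_basis, AdjoinRoot.powerBasis'_gen]
    rw [e1, Module.Basis.coord_apply, Module.Basis.repr_self, Finsupp.single_apply]
    simp [last, Fin.ext_iff]
  exact core R S p hp.out.ne_zero a x L hLη hLx c hc t

end Groth.Agent.PthTrace
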